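import Cfsg.Agent.EqLemmas

/-!
# The Burnside basis theorem

For a finite `p`-group `P` with `(frattini P).index = p ^ r`:
* `coatom_normal`, `coatom_index`, `pow_mem_frattini`, `commutatorElement_mem_frattini`
* `closure_range_eq_top_iff`: a family generates iff its image in the Frattini quotient generates
* `card_generating`: the number of generating `r`-tuples of `P`
* `exists_generating`: a generating `r`-tuple
* `aut_stabilizer_eq_bot`: automorphisms act freely on generating tuples
-/

set_option autoImplicit false

open scoped commutatorElement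

namespace Cfsg.Agent.BurnsideBasis

variable {P : Type*} [Group P] [Finite P] {p : ℕ} [Fact p.Prime]

theorem coatom_normal (hP : IsPGroup p P) {M : Subgroup P} (hM : IsCoatom M) : M.Normal :=
  haveI : Group.IsNilpotent P := hP.isNilpotent
  Subgroup.NormalizerCondition.normal_of_coatom M normalizerCondition_of_isNilpotent hM

theorem coatom_index (hP : IsPGroup p P) {M : Subgroup P} (hM : IsCoatom M) : M.index = p := by
  haveI := coatom_normal hP hM
  obtain ⟨k, hk⟩ := hP.index M
  have hk0 : k ≠ 0 := fun h => hM.1 (Subgroup.index_eq_one.mp (by rw [hk, h, pow_zero]))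
  have hcard : Nat.card (P ⧸ M) = p ^ k := by rw [← hk, Subgroup.index_eq_card]
  obtain ⟨x, hx⟩ := exists_prime_orderOf_dvd_card' p (hcard ▸ dvd_pow_self p hk0)
  have hle : M ≤ (Subgroup.zpowers x).comap (QuotientGroup.mk' M) := fun m hm => by
    rw [Subgroup.mem_comap, QuotientGroup.mk'_apply, (QuotientGroup.eq_one_iff m).mpr hm]
    exact one_mem _
  rcases hle.eq_or_lt with h | h
  · exfalso
    obtain ⟨y, rfl⟩ := QuotientGroup.mk'_surjective M x
    have hy : y ∈ M := by
      rw [h, Subgroup.mem_comap]
      exact Subgroup.mem_zpowers _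
    rw [QuotientGroup.mk'_apply, (QuotientGroup.eq_one_iff y).mpr hy, orderOf_one] at hx
    exact (Fact.out : p.Prime).ne_one hx.symm
  · have htop : Subgroup.zpowers x = ⊤ := by
      apply Subgroup.comap_injective (QuotientGroup.mk'_surjective M)
      rw [hM.2 _ h, Subgroup.comap_top]
    rw [Subgroup.index_eq_card, ← Subgroup.card_top (G := P ⧸ M), ← htop, Nat.card_zpowers, hx]

theorem commutatorElement_mem_frattini (hP : IsPGroup p P) (a b : P) : ⁅a, b⁆ ∈ frattini P := by
  simp only [frattini, Order.radical, Subgroup.mem_iInf]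
  intro M hM
  haveI := coatom_normal hP hM
  have hcard : Nat.card (P ⧸ M) = p := by rw [← Subgroup.index_eq_card, coatom_index hP hM]
  haveI : IsCyclic (P ⧸ M) := isCyclic_of_prime_card hcard
  rw [← QuotientGroup.eq_one_iff]
  change QuotientGroup.mk' M ⁅a, b⁆ = 1
  rw [map_commutatorElement, commutatorElement_eq_one_iff_mul_comm]
  exact IsCyclic.commGroup.mul_comm _ _

theorem pow_mem_frattini (hP : IsPGroup p P) (a : P) : a ^ p ∈ frattini P := by
  simp only [frattini, Order.radical, Subgroup.mem_iInf]
  intro M hM
  haveI := coatom_normal hP hM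
  have := Subgroup.pow_index_mem M a
  rwa [coatom_index hP hM] at this

theorem quotient_mul_comm (hP : IsPGroup p P) (a b : P ⧸ frattini P) : a * b = b * a := by
  obtain ⟨a, rfl⟩ := QuotientGroup.mk'_surjective _ a
  obtain ⟨b, rfl⟩ := QuotientGroup.mk'_surjective _ b
  rw [← commutatorElement_eq_one_iff_mul_comm, ← map_commutatorElement, QuotientGroup.mk'_apply,
    QuotientGroup.eq_one_iff]
  exact commutatorElement_mem_frattini hP a b

theorem closure_range_eq_top_iff {ι : Type*} (f : ι → P) :
    Subgroup.closure (Set.range f) = ⊤ ↔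
      Subgroup.closure (Set.range fun i => (f i : P ⧸ frattini P)) = ⊤ := by
  have e : Subgroup.closure (Set.range fun i => (f i : P ⧸ frattini P)) =
      (Subgroup.closure (Set.range f)).map (QuotientGroup.mk' (frattini P)) := by
    rw [MonoidHom.map_closure, ← Set.range_comp]; rfl
  rw [e]
  constructor
  · intro h; rw [h]; exact Subgroup.map_top_of_surjective _ (QuotientGroup.mk'_surjective _)
  · intro h
    apply frattini_nongenerating
    rw [← Subgroup.comap_map_eq_self (f := QuotientGroup.mk' (frattini P))
      (H := Subgroup.closure (Set.range f) ⊔ frattini P) (by simp), Subgroup.map_sup, h, top_sup_eq,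
      Subgroup.comap_top]

/-- The number of generating tuples of an elementary abelian group of order `p ^ r`. -/
theorem card_generating_elemAb {V : Type*} [CommGroup V] [Finite V] (hexp : ∀ v : V, v ^ p = 1) (r : ℕ)
    (hr : Nat.card V = p ^ r) :
    Nat.card {b : Fin r → V // Subgroup.closure (Set.range b) = ⊤} = ∏ i ∈ Finset.range r, (p ^ r - p ^ i) := by
  let instM : Module (ZMod p) (Additive V) :=
    AddCommGroup.zmodModule (n := p) (fun x => congrArg Additive.ofMul (hexp (Additive.toMul x)))
  haveI : Fintype V := Fintype.ofFinite V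
  haveI : Fintype (Additive V) := Fintype.ofFinite _
  have hfin : Module.finrank (ZMod p) (Additive V) = r := by
    have h := Module.card_eq_pow_finrank (K := ZMod p) (V := Additive V)
    rw [ZMod.card, ← Nat.card_eq_fintype_card, Nat.card_congr Additive.toMul, hr] at h
    exact (Nat.pow_right_injective (Fact.out : p.Prime).two_le h).symm
  have hspan : ∀ b : Fin r → V, Subgroup.closure (Set.range b) = ⊤ ↔
      LinearIndependent (ZMod p) (fun i => Additive.ofMul (b i)) := by
    intro b
    have hc : Fintype.card (Fin r) = Module.finrank (ZMod p) (Additive V) := by rw [hfin, Fintype.card_fin]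
    let S : Submodule (ZMod p) (Additive V) := Submodule.span (ZMod p) (Set.range fun i => Additive.ofMul (b i))
    have hs : ∀ x : V, x ∈ Subgroup.closure (Set.range b) ↔ Additive.ofMul x ∈ S := by
      intro x
      let K := Subgroup.toAddSubgroup (Subgroup.closure (Set.range b))
      constructor
      · intro hx
        induction hx using Subgroup.closure_induction with
        | mem y hy =>
          obtain ⟨i, rfl⟩ := hy
          exact Submodule.subset_span ⟨i, rfl⟩
        | one => exact zero_mem _
        | mul y z _ _ hy hz => exact add_mem hy hz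
        | inv y _ hy => exact neg_mem hy
      · intro hx
        have hle : S ≤ AddSubgroup.toZModSubmodule p K :=
          Submodule.span_le.mpr (by rintro _ ⟨i, rfl⟩; exact Subgroup.subset_closure (k := Set.range b) ⟨i, rfl⟩)
        exact hle hx
    rw [linearIndependent_iff_card_le_finrank_span, hc, Set.finrank]
    constructor
    · intro h
      have htop : Submodule.span (ZMod p) (Set.range fun i => Additive.ofMul (b i)) = ⊤ :=
        eq_top_iff.mpr fun x _ => (hs (Additive.toMul x)).mp (h ▸ Subgroup.mem_top _)
      rw [htop, finrank_top]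
    · intro h
      have htop := Submodule.eq_top_of_finrank_eq (le_antisymm (Submodule.finrank_le _) h)
      exact eq_top_iff.mpr fun x _ => (hs x).mpr (by show _ ∈ Submodule.span (ZMod p) _; rw [htop]; exact Submodule.mem_top)
  have e := Nat.card_congr
    ((Equiv.arrowCongr (Equiv.refl (Fin r)) Additive.ofMul).subtypeEquiv
      (p := fun b : Fin r → V => Subgroup.closure (Set.range b) = ⊤)
      (q := fun s => LinearIndependent (ZMod p) s) (fun b => hspan b))
  rw [e, card_linearIndependent hfin.ge, ZMod.card, hfin, Finset.prod_range (fun i => p ^ r - p ^ i)]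

theorem card_frattini {n r : ℕ} (hP : Nat.card P = p ^ n) (hr : (frattini P).index = p ^ r) :
    r ≤ n ∧ Nat.card (frattini P) = p ^ (n - r) := by
  have h := (frattini P).card_mul_index
  rw [hP, hr] at h
  have hle : r ≤ n := (Nat.pow_dvd_pow_iff_le_right (Fact.out : p.Prime).one_lt).mp ⟨_, by rw [← h, mul_comm]⟩
  refine ⟨hle, ?_⟩
  apply mul_right_cancel₀ (pow_ne_zero r (Fact.out : p.Prime).ne_zero)
  rw [h, ← pow_add, Nat.sub_add_cancel hle]

omit [Fact p.Prime] in
/-- The lifts of a fixed tuple of Frattini cosets. -/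
theorem card_lifts {r : ℕ} (b : Fin r → P ⧸ frattini P) :
    Nat.card {f : Fin r → P // ∀ i, (f i : P ⧸ frattini P) = b i} = Nat.card (frattini P) ^ r := by
  rw [show Nat.card (frattini P) ^ r = Nat.card (Fin r → frattini P) by rw [Nat.card_fun, Nat.card_fin]]
  refine Nat.card_congr ⟨fun f i => ⟨(b i).out⁻¹ * f.1 i, ?_⟩, fun g => ⟨fun i => (b i).out * g i, fun i => ?_⟩,
    fun f => ?_, fun g => ?_⟩
  · rw [← QuotientGroup.eq, f.2 i, QuotientGroup.out_eq']
  · rw [QuotientGroup.mk_mul, (QuotientGroup.eq_one_iff _).mpr (g i).2, QuotientGroup.out_eq', mul_one]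
  · exact Subtype.ext (funext fun i => by simp)
  · exact funext fun i => Subtype.ext (by simp)

theorem card_generating {n r : ℕ} (hP : Nat.card P = p ^ n) (hr : (frattini P).index = p ^ r) :
    Nat.card {f : Fin r → P // Subgroup.closure (Set.range f) = ⊤} =
      p ^ (r * (n - r)) * ∏ i ∈ Finset.range r, (p ^ r - p ^ i) := by
  have hG : IsPGroup p P := IsPGroup.of_card hP
  letI : CommGroup (P ⧸ frattini P) :=
    { (inferInstance : Group (P ⧸ frattini P)) with mul_comm := quotient_mul_comm hG }
  have hexp : ∀ v : P ⧸ frattini P, v ^ p = 1 := fun v => by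
    obtain ⟨a, rfl⟩ := QuotientGroup.mk_surjective v
    rw [← QuotientGroup.mk_pow, QuotientGroup.eq_one_iff]
    exact pow_mem_frattini hG a
  have hV := card_generating_elemAb hexp r (by rw [← Subgroup.index_eq_card, hr])
  let B := {b : Fin r → P ⧸ frattini P // Subgroup.closure (Set.range b) = ⊤}
  let e : {f : Fin r → P // Subgroup.closure (Set.range f) = ⊤} ≃
      Σ b : B, {f : Fin r → P // ∀ i, (f i : P ⧸ frattini P) = b.1 i} :=
    { toFun := fun f => ⟨⟨fun i => (f.1 i : P ⧸ frattini P), (closure_range_eq_top_iff f.1).mp f.2⟩,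
        ⟨f.1, fun _ => rfl⟩⟩
      invFun := fun x => ⟨x.2.1, (closure_range_eq_top_iff _).mpr
        (by rw [show (fun i => (x.2.1 i : P ⧸ frattini P)) = x.1.1 from funext x.2.2]; exact x.1.2)⟩
      left_inv := fun _ => rfl
      right_inv := fun ⟨⟨b, hb⟩, ⟨f, hf⟩⟩ => by
        obtain rfl : (fun i => (f i : P ⧸ frattini P)) = b := funext hf
        rfl }
  haveI : Fintype B := Fintype.ofFinite B
  rw [Nat.card_congr e, Nat.card_sigma]
  simp only [card_lifts, (card_frattini hP hr).2]
  rw [Finset.sum_const, Finset.card_univ, ← Nat.card_eq_fintype_card, hV, ← pow_mul, smul_eq_mul,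
    mul_comm r (n - r), mul_comm]

theorem exists_generating {n r : ℕ} (hP : Nat.card P = p ^ n) (hr : (frattini P).index = p ^ r) :
    ∃ f : Fin r → P, Subgroup.closure (Set.range f) = ⊤ := by
  have h := card_generating hP hr
  have hpos : 0 < p ^ (r * (n - r)) * ∏ i ∈ Finset.range r, (p ^ r - p ^ i) :=
    Nat.mul_pos (pow_pos (Fact.out : p.Prime).pos _) (Finset.prod_pos fun i hi =>
      Nat.sub_pos_of_lt (Nat.pow_lt_pow_right (Fact.out : p.Prime).one_lt (Finset.mem_range.mp hi)))
  rw [← h, Nat.card_pos_iff] at hpos
  obtain ⟨⟨f, hf⟩⟩ := hpos.1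
  exact ⟨f, hf⟩

omit [Fact p.Prime] [Finite P] in
theorem aut_eq_one {ι : Type*} {f : ι → P} (hf : Subgroup.closure (Set.range f) = ⊤) {α : MulAut P}
    (h : ∀ i, α (f i) = f i) : α = 1 := by
  have he := MonoidHom.eqOn_closure (f := α.toMonoidHom) (g := MonoidHom.id P) (s := Set.range f)
    (by rintro _ ⟨i, rfl⟩; exact h i)
  ext x
  exact he (hf ▸ Subgroup.mem_top x)

end Cfsg.Agent.BurnsideBasis

namespace Cfsg.Agent.BurnsideBasis

/-- A group acting freely has order dividing the number of points. -/
theorem card_dvd_of_free {A X : Type*} [Group A] [MulAction A X]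
    (h : ∀ x : X, MulAction.stabilizer A x = ⊥) : Nat.card A ∣ Nat.card X := by
  rw [Nat.card_congr (MulAction.selfEquivOrbitsQuotientProd h), Nat.card_prod]
  exact Dvd.intro_left _ rfl

/-- A group of automorphisms has order dividing the size of any invariant set of generating tuples. -/
theorem card_dvd_card_invariant_generating {P : Type*} [Group P] {r : ℕ} (A : Subgroup (MulAut P))
    (S : Set (Fin r → P)) (hgen : ∀ f ∈ S, Subgroup.closure (Set.range f) = ⊤)
    (hinv : ∀ α ∈ A, ∀ f ∈ S, (fun i => α (f i)) ∈ S) : Nat.card A ∣ Nat.card S := by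
  let inst : MulAction A S :=
    { smul := fun a f => ⟨fun i => (a : MulAut P) (f.1 i), hinv a a.2 f f.2⟩
      one_smul := fun f => rfl
      mul_smul := fun a b f => rfl }
  refine card_dvd_of_free fun f => ?_
  rw [Subgroup.eq_bot_iff_forall]
  intro a ha
  have h : (fun i => (a : MulAut P) (f.1 i)) = f.1 := congrArg Subtype.val (MulAction.mem_stabilizer_iff.mp ha)
  exact Subtype.ext (aut_eq_one (hgen f.1 f.2) fun i => congrFun h i)

end Cfsg.Agent.BurnsideBasis
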